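import Mathlib

/-!
# Cubic cocycles on `𝔽₂ⁿ` given by matrices

`theta U x y = ∑ₖ yₖ · (xᵀ Uₖ x)` is linear in `y` and quadratic in `x`.  For a matrix `P`, the
twisted function `theta U (P x) (P y)` is again of this shape; if the difference of the two is
bilinear, it is the polarisation of an explicit quadratic form.
-/

set_option autoImplicit false

namespace Cfsg.Agent.Helper93.Pk

open Matrix

variable {n : ℕ}

/-- the function `∑ₖ yₖ · (xᵀ Uₖ x)` -/
def theta (U : Fin n → Matrix (Fin n) (Fin n) (ZMod 2)) (x y : Fin n → ZMod 2) : ZMod 2 :=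
  ∑ k, y k * (x ⬝ᵥ (U k *ᵥ x))

theorem theta_add_right (U : Fin n → Matrix (Fin n) (Fin n) (ZMod 2)) (x y z : Fin n → ZMod 2) :
    theta U x (y + z) = theta U x y + theta U x z := by
  unfold theta
  rw [← Finset.sum_add_distrib]
  apply Finset.sum_congr rfl
  intro k _
  rw [Pi.add_apply, add_mul]

/-- the quadratic form of a matrix -/
def qf (F : Matrix (Fin n) (Fin n) (ZMod 2)) (x : Fin n → ZMod 2) : ZMod 2 := x ⬝ᵥ (F *ᵥ x)

theorem z2_mul_self (a : ZMod 2) : a * a = a := by revert a; decide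

theorem z2_add_self' (a : ZMod 2) : a + a = 0 := by revert a; decide

theorem qf_polar (F : Matrix (Fin n) (Fin n) (ZMod 2)) (x y : Fin n → ZMod 2) :
    qf F (x + y) + qf F x + qf F y = x ⬝ᵥ ((F + Fᵀ) *ᵥ y) := by
  have h : x ⬝ᵥ (Fᵀ *ᵥ y) = y ⬝ᵥ (F *ᵥ x) := by
    rw [Matrix.dotProduct_mulVec, Matrix.vecMul_transpose, dotProduct_comm]
  have hR : x ⬝ᵥ ((F + Fᵀ) *ᵥ y) = x ⬝ᵥ (F *ᵥ y) + y ⬝ᵥ (F *ᵥ x) := by
    rw [Matrix.add_mulVec, dotProduct_add, h]
  rw [hR]
  unfold qf
  rw [Matrix.mulVec_add, dotProduct_add, add_dotProduct, add_dotProduct]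
  have e : ∀ a b c d : ZMod 2, a + c + (b + d) + a + d = b + c := by decide
  exact e _ _ _ _

theorem qf_smul_sum (c : Fin n → ZMod 2) (Q : Fin n → Matrix (Fin n) (Fin n) (ZMod 2))
    (x : Fin n → ZMod 2) : qf (∑ k, c k • Q k) x = ∑ k, c k * qf (Q k) x := by
  unfold qf
  rw [Matrix.sum_mulVec, dotProduct_sum]
  apply Finset.sum_congr rfl
  intro k _
  rw [Matrix.smul_mulVec, dotProduct_smul, smul_eq_mul]

theorem qf_conj (P F : Matrix (Fin n) (Fin n) (ZMod 2)) (x : Fin n → ZMod 2) :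
    qf F (P *ᵥ x) = qf (Pᵀ * F * P) x := by
  unfold qf
  rw [← Matrix.mulVec_mulVec, ← Matrix.mulVec_mulVec, Matrix.dotProduct_mulVec x Pᵀ,
    Matrix.vecMul_transpose]

/-- a symmetric matrix gives the linear form of its diagonal -/
theorem qf_of_symm (N : Matrix (Fin n) (Fin n) (ZMod 2)) (h : N + Nᵀ = 0) (x : Fin n → ZMod 2) :
    qf N x = ∑ i, N i i * x i := by
  have hs : ∀ i j, N i j = N j i := by
    intro i j
    have h1 := congrFun (congrFun h i) j
    simp only [Matrix.add_apply, Matrix.transpose_apply, Matrix.zero_apply] at h1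
    have e : ∀ a b : ZMod 2, a + b = 0 → a = b := by decide
    exact e _ _ h1
  unfold qf
  simp only [dotProduct, Matrix.mulVec, Finset.mul_sum]
  rw [← Fintype.sum_prod_type' (f := fun i j => x i * (N i j * x j))]
  rw [← Finset.sum_filter_add_sum_filter_not Finset.univ (fun p : Fin n × Fin n => p.1 = p.2)]
  have hoff : ∑ p ∈ Finset.univ.filter (fun p : Fin n × Fin n => ¬ p.1 = p.2),
      x p.1 * (N p.1 p.2 * x p.2) = 0 := by
    apply Finset.sum_involution (fun p _ => (p.2, p.1))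
    · intro p _
      show x p.1 * (N p.1 p.2 * x p.2) + x p.2 * (N p.2 p.1 * x p.1) = 0
      rw [hs p.2 p.1]
      have e : ∀ a b c : ZMod 2, a * (b * c) + c * (b * a) = 0 := by decide
      exact e _ _ _
    · intro p hp _ hcon
      rw [Finset.mem_filter] at hp
      apply hp.2
      have := congrArg Prod.fst hcon
      exact this.symm
    · intro p hp
      rw [Finset.mem_filter] at hp ⊢
      exact ⟨Finset.mem_univ _, fun h => hp.2 h.symm⟩
    · intro p _
      rfl
  rw [hoff, add_zero, Finset.sum_filter, Fintype.sum_prod_type]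
  apply Finset.sum_congr rfl
  intro i _
  rw [Finset.sum_ite_eq Finset.univ i (fun j => x i * (N i j * x j)), if_pos (Finset.mem_univ _)]
  have e : ∀ a b : ZMod 2, a * (b * a) = b * a := by decide
  exact e _ _

/-- the twisted function is again given by matrices -/
theorem theta_twist (U Q : Fin n → Matrix (Fin n) (Fin n) (ZMod 2))
    (P : Matrix (Fin n) (Fin n) (ZMod 2)) (hQ : ∀ k, Pᵀ * U k * P = Q k)
    (x y : Fin n → ZMod 2) :
    theta U (P *ᵥ x) (P *ᵥ y) = ∑ l, y l * qf (∑ k, P k l • Q k) x := by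
  unfold theta
  have h1 : ∀ k, (P *ᵥ x) ⬝ᵥ (U k *ᵥ (P *ᵥ x)) = qf (Q k) x := by
    intro k
    rw [← hQ k, ← qf_conj]
    rfl
  simp only [h1]
  simp only [qf_smul_sum, Matrix.mulVec, dotProduct, Finset.sum_mul, Finset.mul_sum]
  rw [Finset.sum_comm]
  apply Finset.sum_congr rfl
  intro l _
  apply Finset.sum_congr rfl
  intro k _
  ring

/-- the main criterion: the twisted cocycle differs from the cocycle by a coboundary -/
theorem theta_twist_eq (U Q : Fin n → Matrix (Fin n) (Fin n) (ZMod 2))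
    (P F : Matrix (Fin n) (Fin n) (ZMod 2)) (hQ : ∀ k, Pᵀ * U k * P = Q k)
    (hsym : ∀ l, ((∑ k, P k l • Q k) + U l) + ((∑ k, P k l • Q k) + U l)ᵀ = 0)
    (hdiag : ∀ l i, ((∑ k, P k l • Q k) + U l) i i = (F + Fᵀ) i l)
    (x y : Fin n → ZMod 2) :
    qf F (x + y) + qf F x + qf F y = theta U (P *ᵥ x) (P *ᵥ y) + theta U x y := by
  rw [qf_polar, theta_twist U Q P hQ]
  unfold theta
  rw [← Finset.sum_add_distrib]
  have h1 : ∀ l, y l * qf (∑ k, P k l • Q k) x + y l * (x ⬝ᵥ (U l *ᵥ x))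
      = y l * ∑ i, (F + Fᵀ) i l * x i := by
    intro l
    rw [← mul_add]
    congr 1
    have h2 : qf (∑ k, P k l • Q k) x + x ⬝ᵥ (U l *ᵥ x) = qf ((∑ k, P k l • Q k) + U l) x := by
      unfold qf
      rw [Matrix.add_mulVec, dotProduct_add]
    rw [h2, qf_of_symm _ (hsym l)]
    apply Finset.sum_congr rfl
    intro i _
    rw [hdiag l i]
  simp only [h1]
  simp only [dotProduct, Matrix.mulVec, Finset.mul_sum]
  rw [Finset.sum_comm]
  apply Finset.sum_congr rfl
  intro l _
  apply Finset.sum_congr rfl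
  intro i _
  ring

end Cfsg.Agent.Helper93.Pk
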