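import Cfsg.Agent.Helper27.Golay
import Cfsg.Agent.Helper7.Basic
import Cfsg.Prelude.Def_Spor_Mathieu
import Cfsg.Agent.Helper93.Pk.PkA

/-!
# Coordinates on the even-at-infinity half of the Golay code

`C₀ = {c ∈ golayCode | c none = 0}` has dimension 11; `w0 : (Fin 11 → ZMod 2) → V` is a linear
parametrisation which is systematic on the points `ip i`, and `kap` reads off these coordinates.
A permutation `g ∈ M23` then acts on the coordinates by `rho g`.
-/

set_option autoImplicit false

namespace Cfsg.Agent.Helper93.Pk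

open Cfsg Cfsg.Agent.Helper27 Cfsg.Agent.Helper7 Matrix

/-- the coordinate space of `C₀` -/
abbrev W : Type := Fin 11 → ZMod 2

/-- a basis of `C₀`, systematic on the points `1, …, 11` -/
def e0Masks : List ℕ :=
  [4845570, 1302533, 7221256, 6053905, 7417889, 2854977, 2019456, 4038912, 8077824, 7767041, 2422785]

/-- the generator matrix of `C₀` -/
def gen0 : Matrix (Fin 11) GolayPt (ZMod 2) := fun i p => wordOf (e0Masks.getD i.val 0) p

/-- the information points -/
def ip (i : Fin 11) : GolayPt := gPt (i.val + 1)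

/-- the parametrisation of `C₀` -/
def w0 : W →ₗ[ZMod 2] V := Matrix.vecMulLinear gen0

/-- the coordinates of a word -/
def kap : V →ₗ[ZMod 2] W := LinearMap.funLeft (ZMod 2) (ZMod 2) ip

theorem w0_apply (x : W) (p : GolayPt) : w0 x p = ∑ i, x i * gen0 i p := rfl

theorem kap_apply (c : V) (i : Fin 11) : kap c i = c (ip i) := rfl

theorem gen0_ip : ∀ i j : Fin 11, gen0 i (ip j) = if i = j then 1 else 0 := by decide +kernel

theorem gen0_none : ∀ i : Fin 11, gen0 i none = 0 := by decide +kernel

theorem e0Masks_lt : ∀ i : Fin 11, e0Masks.getD i.val 0 < 2 ^ 24 := by decide +kernel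

theorem e0Masks_isCode : ∀ i : Fin 11, isCode (e0Masks.getD i.val 0) = true := by decide +kernel

theorem kap_w0 (x : W) : kap (w0 x) = x := by
  funext j
  rw [kap_apply, w0_apply]
  simp only [gen0_ip, mul_ite, mul_one, mul_zero]
  rw [Finset.sum_ite_eq' Finset.univ j x, if_pos (Finset.mem_univ _)]

theorem gen0_mem (i : Fin 11) : (gen0 i : V) ∈ golayCode :=
  (wordOf_mem_golayCode_iff (e0Masks_lt i)).2 (e0Masks_isCode i)

theorem w0_mem (x : W) : w0 x ∈ golayCode := by
  have h : w0 x = ∑ i, x i • (gen0 i : V) := Matrix.vecMul_eq_sum x gen0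
  rw [h]
  exact Submodule.sum_mem _ fun i _ => Submodule.smul_mem _ _ (gen0_mem i)

theorem w0_none (x : W) : w0 x none = 0 := by
  rw [w0_apply]
  simp only [gen0_none, mul_zero, Finset.sum_const_zero]

/-- the bits of a mask at the positions `23, 1, …, 11` all vanish -/
def zchk (m : ℕ) : Bool := [23, 1, 2, 3, 4, 5, 6, 7, 8, 9, 10, 11].all fun j => !m.testBit j

theorem gIdx_ip_mem : ∀ i : Fin 11, gIdx (ip i) ∈ [23, 1, 2, 3, 4, 5, 6, 7, 8, 9, 10, 11] := by
  decide +kernel

theorem zchk_encode : ∀ m < 2 ^ 12, (!(zchk (encode m)) || m == 0) = true :=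
  forall_lt_of_allRange (fun m => !(zchk (encode m)) || m == 0) 12 (by decide +kernel)

/-- a word of `C₀` vanishing at the information points is zero -/
theorem c0_inj {c : V} (hc : c ∈ golayCode) (h0 : c none = 0) (hk : kap c = 0) : c = 0 := by
  obtain ⟨m, hm, rfl⟩ := exists_encode_of_mem hc
  have hz : zchk (encode m) = true := by
    unfold zchk
    rw [List.all_eq_true]
    intro j hj
    have hbit : ∀ p : GolayPt, wordOf (encode m) p = 0 → (encode m).testBit (gIdx p) = false := by
      intro p hp
      rw [wordOf_apply] at hp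
      by_contra hne
      rw [Bool.not_eq_false] at hne
      rw [if_pos hne] at hp
      exact one_ne_zero hp
    have hall : ∀ j ∈ [23, 1, 2, 3, 4, 5, 6, 7, 8, 9, 10, 11], (encode m).testBit j = false := by
      intro j hj
      rw [List.mem_cons] at hj
      rcases hj with rfl | hj
      · exact hbit none h0
      · have : ∃ i : Fin 11, gIdx (ip i) = j := by
          revert j
          decide +kernel
        obtain ⟨i, rfl⟩ := this
        apply hbit
        have := congrFun hk i
        rwa [kap_apply] at this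
    rw [hall j hj]
    rfl
  have key := zchk_encode m (by norm_num; exact hm)
  rw [hz] at key
  simp only [Bool.not_true, Bool.false_or, beq_iff_eq] at key
  rw [key, encode_zero, wordOf_zero]

/-- `w0` and `kap` are mutually inverse between the coordinate space and `C₀` -/
theorem w0_kap {c : V} (hc : c ∈ golayCode) (h0 : c none = 0) : w0 (kap c) = c := by
  have h : w0 (kap c) - c = 0 := by
    apply c0_inj
    · exact golayCode.sub_mem (w0_mem _) hc
    · rw [Pi.sub_apply, w0_none, h0, sub_zero]
    · rw [map_sub, kap_w0, sub_self]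
  exact sub_eq_zero.1 h

/-- the action of a permutation on the coordinates -/
def rho (g : Equiv.Perm GolayPt) : W →ₗ[ZMod 2] W :=
  kap ∘ₗ ((permL g : V ≃ₗ[ZMod 2] V) : V →ₗ[ZMod 2] V) ∘ₗ w0

theorem rho_def (g : Equiv.Perm GolayPt) (x : W) : rho g x = kap (permL g (w0 x)) := rfl

theorem rho_apply (g : Equiv.Perm GolayPt) (x : W) (j : Fin 11) :
    rho g x j = w0 x (g.symm (ip j)) := rfl

theorem mem_M23_iff (g : Equiv.Perm GolayPt) : g ∈ Spor.M23 ↔ g ∈ M24 ∧ g none = none := Iff.rfl

theorem w0_rho {g : Equiv.Perm GolayPt} (hg : g ∈ Spor.M23) (x : W) :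
    w0 (rho g x) = permL g (w0 x) := by
  rw [mem_M23_iff] at hg
  rw [rho_def]
  apply w0_kap
  · exact permL_mem_of_mem_M24 hg.1 (w0_mem x)
  · rw [permL_apply]
    have : g.symm none = none := by
      rw [Equiv.symm_apply_eq]
      exact hg.2.symm
    rw [this, w0_none]

theorem permL_mul (g h : Equiv.Perm GolayPt) (w : V) : permL (g * h) w = permL g (permL h w) := rfl

theorem rho_mul (g : Equiv.Perm GolayPt) {h : Equiv.Perm GolayPt} (hh : h ∈ Spor.M23) (x : W) :
    rho (g * h) x = rho g (rho h x) := by
  rw [rho_def g, w0_rho hh, rho_def, permL_mul]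

theorem rho_one (x : W) : rho 1 x = x := by
  rw [rho_def]
  have : permL 1 (w0 x) = w0 x := rfl
  rw [this, kap_w0]

/-- the matrix of `rho g` -/
def pmat (g : Equiv.Perm GolayPt) : Matrix (Fin 11) (Fin 11) (ZMod 2) :=
  fun j i => gen0 i (g.symm (ip j))

theorem rho_eq_mulVec (g : Equiv.Perm GolayPt) (x : W) : rho g x = pmat g *ᵥ x := by
  funext j
  rw [rho_apply, w0_apply]
  simp only [Matrix.mulVec, dotProduct, pmat]
  apply Finset.sum_congr rfl
  intro i _
  rw [mul_comm]

theorem pmat_eq (g : Equiv.Perm GolayPt) (q : Fin 11 → GolayPt) (hq : ∀ i, g (q i) = ip i) :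
    pmat g = fun j i => gen0 i (q j) := by
  funext j i
  unfold pmat
  have : g.symm (ip j) = q j := by
    rw [Equiv.symm_apply_eq]
    exact (hq j).symm
  rw [this]

end Cfsg.Agent.Helper93.Pk
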