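import Cfsg.Agent.Helper93.Pk.PkU

/-!
# The extension of `M23` by the dual of `C₀`

Elements are pairs `(π, f)` with `π ∈ M23` and `f : W → ZMod 2` whose polarisation is the
coboundary `Th (ρπ x) (ρπ y) + Th x y`; the product is `(π, f)(π', f') = (ππ', f' + f ∘ ρπ')`.
-/

set_option autoImplicit false

namespace Cfsg.Agent.Helper93.Pk

open Cfsg Cfsg.Agent.Helper27 Cfsg.Agent.Helper7 Matrix

/-- the extension group -/
@[ext]
structure PE where
  /-- the permutation -/
  p : ↥Spor.M23
  /-- the function on the coordinate space -/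
  f : W → ZMod 2
  /-- its polarisation -/
  h : ∀ x y, f (x + y) + f x + f y =
    Th (rho (p : Equiv.Perm GolayPt) x) (rho (p : Equiv.Perm GolayPt) y) + Th x y

theorem z2_comb1 : ∀ A B C A' B' C' T0 T1 T2 : ZMod 2, A + B + C = T1 + T0 → A' + B' + C' = T2 + T1 →
    (A + A') + (B + B') + (C + C') = T2 + T0 := by decide

theorem rho_coe_mul (a b : ↥Spor.M23) (x : W) :
    rho ((a * b : ↥Spor.M23) : Equiv.Perm GolayPt) x =
      rho (a : Equiv.Perm GolayPt) (rho (b : Equiv.Perm GolayPt) x) := by
  rw [Subgroup.coe_mul]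
  exact rho_mul _ b.2 x

theorem rho_coe_one (x : W) : rho ((1 : ↥Spor.M23) : Equiv.Perm GolayPt) x = x := by
  rw [Subgroup.coe_one]
  exact rho_one x

theorem rho_coe_inv_cancel (a : ↥Spor.M23) (x : W) :
    rho (a : Equiv.Perm GolayPt) (rho ((a⁻¹ : ↥Spor.M23) : Equiv.Perm GolayPt) x) = x := by
  rw [← rho_coe_mul, mul_inv_cancel, rho_coe_one]

theorem rho_coe_inv_cancel' (a : ↥Spor.M23) (x : W) :
    rho ((a⁻¹ : ↥Spor.M23) : Equiv.Perm GolayPt) (rho (a : Equiv.Perm GolayPt) x) = x := by
  rw [← rho_coe_mul, inv_mul_cancel, rho_coe_one]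

instance : Mul PE :=
  ⟨fun a b => ⟨a.p * b.p, fun x => b.f x + a.f (rho (b.p : Equiv.Perm GolayPt) x), by
    intro x y
    have hb := b.h x y
    have ha := a.h (rho (b.p : Equiv.Perm GolayPt) x) (rho (b.p : Equiv.Perm GolayPt) y)
    rw [rho_coe_mul, rho_coe_mul, map_add]
    exact z2_comb1 _ _ _ _ _ _ _ _ _ hb ha⟩⟩

instance : One PE :=
  ⟨⟨1, fun _ => 0, by
    intro x y
    rw [rho_coe_one, rho_coe_one, z2_add_self' (Th x y)]
    simp⟩⟩

instance : Inv PE :=
  ⟨fun a => ⟨a.p⁻¹, fun x => a.f (rho ((a.p⁻¹ : ↥Spor.M23) : Equiv.Perm GolayPt) x), by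
    intro x y
    have ha := a.h (rho ((a.p⁻¹ : ↥Spor.M23) : Equiv.Perm GolayPt) x)
      (rho ((a.p⁻¹ : ↥Spor.M23) : Equiv.Perm GolayPt) y)
    rw [rho_coe_inv_cancel, rho_coe_inv_cancel] at ha
    rw [map_add, ha, add_comm]⟩⟩

theorem mul_p (a b : PE) : (a * b).p = a.p * b.p := rfl
theorem mul_f (a b : PE) (x : W) :
    (a * b).f x = b.f x + a.f (rho (b.p : Equiv.Perm GolayPt) x) := rfl
theorem one_p : (1 : PE).p = 1 := rfl
theorem one_f (x : W) : (1 : PE).f x = 0 := rfl
theorem inv_p (a : PE) : (a⁻¹).p = a.p⁻¹ := rfl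
theorem inv_f (a : PE) (x : W) :
    (a⁻¹).f x = a.f (rho ((a.p⁻¹ : ↥Spor.M23) : Equiv.Perm GolayPt) x) := rfl

instance : Group PE where
  mul_assoc a b c := by
    apply PE.ext
    · simp only [mul_p, mul_assoc]
    · funext x
      simp only [mul_f, mul_p, rho_coe_mul, add_assoc]
  one_mul a := by
    apply PE.ext
    · simp only [mul_p, one_p, one_mul]
    · funext x
      simp only [mul_f, one_f, add_zero]
  mul_one a := by
    apply PE.ext
    · simp only [mul_p, one_p, mul_one]
    · funext x
      simp only [mul_f, one_f, one_p, rho_coe_one, zero_add]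
  inv_mul_cancel a := by
    apply PE.ext
    · simp only [mul_p, inv_p, one_p, inv_mul_cancel]
    · funext x
      simp only [mul_f, inv_f, one_f, rho_coe_inv_cancel', z2_add_self']

instance : Finite PE :=
  Finite.of_injective (fun e : PE => (e.p, e.f))
    (fun _ _ h => PE.ext (congrArg Prod.fst h) (congrArg Prod.snd h))

/-- the projection onto `M23` -/
def proj : PE →* ↥Spor.M23 where
  toFun := PE.p
  map_one' := rfl
  map_mul' _ _ := rfl

theorem proj_apply (e : PE) : proj e = e.p := rfl

/-- the elements of `M23` which lift to the extension -/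
def liftable : Subgroup (Equiv.Perm GolayPt) := proj.range.map Spor.M23.subtype

theorem mem_liftable_iff (g : Equiv.Perm GolayPt) :
    g ∈ liftable ↔ ∃ e : PE, (e.p : Equiv.Perm GolayPt) = g := by
  unfold liftable
  constructor
  · rintro ⟨_, ⟨e, rfl⟩, rfl⟩
    exact ⟨e, rfl⟩
  · rintro ⟨e, rfl⟩
    exact ⟨e.p, ⟨e, rfl⟩, rfl⟩

theorem mem_liftable_of_lift {g : Equiv.Perm GolayPt} (hg : g ∈ Spor.M23)
    (F : Matrix (Fin 11) (Fin 11) (ZMod 2))
    (hF : ∀ x y : W, qf F (x + y) + qf F x + qf F y = Th (rho g x) (rho g y) + Th x y) :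
    g ∈ liftable :=
  (mem_liftable_iff g).2 ⟨⟨⟨g, hg⟩, qf F, hF⟩, rfl⟩

theorem liftable_le : liftable ≤ Spor.M23 := by
  intro g hg
  obtain ⟨e, rfl⟩ := (mem_liftable_iff g).1 hg
  exact e.p.2

theorem proj_surjective_of (h : liftable = Spor.M23) : Function.Surjective proj := by
  intro π
  have : (π : Equiv.Perm GolayPt) ∈ liftable := by
    rw [h]
    exact π.2
  obtain ⟨e, he⟩ := (mem_liftable_iff _).1 this
  exact ⟨e, Subtype.ext he⟩

/-! ### the kernel -/

/-- the linear form on the coordinate space given by a word -/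
def thetaFun (w : V) : W → ZMod 2 := fun x => ∑ p, w p * w0 x p

theorem thetaFun_add_right (w : V) (x y : W) : thetaFun w (x + y) = thetaFun w x + thetaFun w y := by
  unfold thetaFun
  rw [map_add, ← Finset.sum_add_distrib]
  apply Finset.sum_congr rfl
  intro p _
  rw [Pi.add_apply, mul_add]

theorem thetaFun_add_left (w w' : V) (x : W) : thetaFun (w + w') x = thetaFun w x + thetaFun w' x := by
  unfold thetaFun
  rw [← Finset.sum_add_distrib]
  apply Finset.sum_congr rfl
  intro p _
  rw [Pi.add_apply, add_mul]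

theorem z2_comb2 : ∀ a b T : ZMod 2, (a + b) + a + b = T + T := by decide

/-- the element of the kernel given by a word -/
def thE (w : V) : PE :=
  ⟨1, thetaFun w, by
    intro x y
    rw [rho_coe_one, rho_coe_one, thetaFun_add_right]
    exact z2_comb2 _ _ _⟩

theorem thE_p (w : V) : (thE w).p = 1 := rfl
theorem thE_f (w : V) (x : W) : (thE w).f x = thetaFun w x := rfl

theorem thE_mem (w : V) : thE w ∈ proj.ker := by
  rw [MonoidHom.mem_ker]
  rfl

theorem thE_add (w w' : V) : thE (w + w') = thE w * thE w' := by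
  apply PE.ext
  · rw [mul_p, thE_p, thE_p, thE_p, one_mul]
  · funext x
    rw [mul_f, thE_f, thE_f, thE_f, thE_p, rho_coe_one, thetaFun_add_left, add_comm]

theorem thE_zero : thE 0 = 1 := by
  apply PE.ext
  · rfl
  · funext x
    rw [thE_f, one_f]
    unfold thetaFun
    simp

/-- the parametrisation of the kernel -/
def thetaHom : V →+ Additive ↥proj.ker where
  toFun w := Additive.ofMul ⟨thE w, thE_mem w⟩
  map_zero' := by
    apply Additive.toMul.injective
    apply Subtype.ext
    exact thE_zero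
  map_add' w w' := by
    apply Additive.toMul.injective
    apply Subtype.ext
    exact thE_add w w'

theorem thetaHom_coe (w : V) : (((thetaHom w).toMul : ↥proj.ker) : PE) = thE w := rfl

theorem thetaHom_eq_zero_iff (w : V) : thetaHom w = 0 ↔ ∀ x : W, thetaFun w x = 0 := by
  constructor
  · intro h x
    have h1 : thE w = 1 := by
      have := congrArg (fun n : Additive ↥proj.ker => ((n.toMul : ↥proj.ker) : PE)) h
      exact this
    rw [← thE_f, h1, one_f]
  · intro h
    apply Additive.toMul.injective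
    apply Subtype.ext
    show thE w = 1
    apply PE.ext
    · rfl
    · funext x
      rw [thE_f, one_f, h x]

/-- the kernel of `thetaHom` consists of the words orthogonal to `C₀` -/
theorem thetaHom_eq_zero_iff' (w : V) :
    thetaHom w = 0 ↔ ∀ c ∈ golayCode, c none = 0 → ∑ p, w p * c p = 0 := by
  rw [thetaHom_eq_zero_iff]
  constructor
  · intro h c hc h0
    have := h (kap c)
    unfold thetaFun at this
    rwa [w0_kap hc h0] at this
  · intro h x
    exact h (w0 x) (w0_mem x) (w0_none x)

/-- an additive function on the coordinate space is determined by its values on the basis -/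
theorem additive_eq_sum (f : W → ZMod 2) (hf : ∀ x y, f (x + y) = f x + f y) (x : W) :
    f x = ∑ i, x i * f (fun j => if i = j then 1 else 0) := by
  have h := LinearMap.pi_apply_eq_sum_univ ((AddMonoidHom.mk' f hf).toZModLinearMap 2) x
  simpa using h

theorem z2_comb3 : ∀ a b c : ZMod 2, a + b + c = 0 → a = b + c := by decide

theorem thetaHom_surjective : Function.Surjective thetaHom := by
  intro n
  obtain ⟨⟨e, he⟩, rfl⟩ := Additive.ofMul.surjective n
  have hp : e.p = 1 := he
  have hadd : ∀ x y, e.f (x + y) = e.f x + e.f y := by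
    intro x y
    have := e.h x y
    rw [hp, rho_coe_one, rho_coe_one, z2_add_self'] at this
    exact z2_comb3 _ _ _ this
  refine ⟨fun p => ∑ i : Fin 11, if p = ip i then e.f (fun j => if i = j then 1 else 0) else 0, ?_⟩
  apply Additive.toMul.injective
  apply Subtype.ext
  show thE _ = e
  apply PE.ext
  · exact hp.symm
  · funext x
    rw [thE_f, additive_eq_sum e.f hadd x]
    unfold thetaFun
    simp only [Finset.sum_mul, ite_mul, zero_mul]
    rw [Finset.sum_comm]
    apply Finset.sum_congr rfl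
    intro i _
    rw [Finset.sum_ite_eq' Finset.univ (ip i), if_pos (Finset.mem_univ _)]
    have : w0 x (ip i) = x i := congrFun (kap_w0 x) i
    rw [this, mul_comm]

/-- conjugation on the kernel -/
theorem thE_conj (g : PE) (w : V) :
    g * thE w * g⁻¹ = thE (w ∘ ⇑((g.p : Equiv.Perm GolayPt)⁻¹)) := by
  apply PE.ext
  · rw [mul_p, mul_p, thE_p, thE_p, inv_p, mul_one, mul_inv_cancel]
  · funext x
    rw [mul_f, mul_f, inv_f, thE_f, thE_f, thE_p, rho_coe_one, inv_p]
    have e : ∀ a b : ZMod 2, a + (b + a) = b := by decide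
    rw [e]
    unfold thetaFun
    rw [w0_rho (g.p⁻¹).2, Subgroup.coe_inv]
    rw [← Equiv.sum_comp (g.p : Equiv.Perm GolayPt)
      (fun q => (w ∘ ⇑((g.p : Equiv.Perm GolayPt)⁻¹)) q * w0 x q)]
    apply Finset.sum_congr rfl
    intro p _
    have hinv : ((g.p : Equiv.Perm GolayPt)⁻¹) ((g.p : Equiv.Perm GolayPt) p) = p :=
      Equiv.symm_apply_apply _ p
    rw [Function.comp_apply, hinv, permL_apply]
    rfl

end Cfsg.Agent.Helper93.Pk
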