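import Cfsg.Agent.Helper93.Pk.PkB
import Cfsg.Agent.Helper92.PermTab

/-!
# A quaternion subgroup of `M23`

Two permutations `q8a`, `q8b` in `M23` with `q8a * q8a = q8b * q8b` and `q8a * q8b * q8a = q8b`.
-/

set_option autoImplicit false

namespace Cfsg.Agent.Helper93.Pk

open Cfsg Cfsg.Agent.Helper27 Cfsg.Agent.Helper7 Cfsg.Agent.Helper92

/-- table of `q8a` -/
def tQa : List ℕ := [14, 10, 21, 18, 9, 4, 13, 6, 8, 16, 12, 22, 17, 19, 0, 15, 5, 1, 3, 7, 20, 11, 2, 23]
/-- inverse table of `q8a` -/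
def sQa : List ℕ := [14, 17, 22, 18, 5, 16, 7, 19, 8, 4, 1, 21, 10, 6, 0, 15, 9, 12, 3, 13, 20, 2, 11, 23]
/-- table of `q8b` -/
def tQb : List ℕ := [18, 2, 12, 14, 19, 7, 4, 9, 8, 13, 22, 1, 11, 5, 3, 15, 6, 21, 0, 16, 20, 10, 17, 23]
/-- inverse table of `q8b` -/
def sQb : List ℕ := [18, 11, 1, 14, 6, 13, 16, 5, 8, 7, 21, 12, 2, 9, 3, 15, 19, 22, 0, 4, 20, 17, 10, 23]

/-- the first generator -/
def q8a : Equiv.Perm GolayPt := permOfTabs tQa sQa
/-- the second generator -/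
def q8b : Equiv.Perm GolayPt := permOfTabs tQb sQb

theorem inv_Qa : isInvPair tQa sQa = true := by decide +kernel
theorem inv_Qb : isInvPair tQb sQb = true := by decide +kernel

theorem q8a_mem : q8a ∈ Spor.M23 := by
  rw [mem_M23_iff]
  refine ⟨permOfTabs_mem_M24 inv_Qa (by decide +kernel), ?_⟩
  show permOfTabs tQa sQa none = none
  rw [permOfTabs_apply inv_Qa]
  decide +kernel

theorem q8b_mem : q8b ∈ Spor.M23 := by
  rw [mem_M23_iff]
  refine ⟨permOfTabs_mem_M24 inv_Qb (by decide +kernel), ?_⟩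
  show permOfTabs tQb sQb none = none
  rw [permOfTabs_apply inv_Qb]
  decide +kernel

theorem q8a_apply (p : GolayPt) : q8a p = tabFun tQa p := permOfTabs_apply inv_Qa p
theorem q8b_apply (p : GolayPt) : q8b p = tabFun tQb p := permOfTabs_apply inv_Qb p

theorem q8_rel1 : q8a * q8a = q8b * q8b := by
  ext1 p
  simp only [Equiv.Perm.mul_apply, q8a_apply, q8b_apply]
  revert p
  decide +kernel

theorem q8_rel2 : q8a * q8b * q8a = q8b := by
  ext1 p
  simp only [Equiv.Perm.mul_apply, q8a_apply, q8b_apply]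
  revert p
  decide +kernel

end Cfsg.Agent.Helper93.Pk
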