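import Cfsg.Agent.Helper93.Pk.PkU
import Cfsg.Agent.Helper93.Pk.PkQ8

/-!
# The lift of the first quaternion generator to the extension
-/

set_option autoImplicit false

namespace Cfsg.Agent.Helper93.Pk

open Cfsg Cfsg.Agent.Helper27 Cfsg.Agent.Helper7 Cfsg.Agent.Helper92 Matrix

/-- preimages of the information points -/
def qs_a : List ℕ := [17, 22, 18, 5, 16, 7, 19, 8, 4, 1, 21]

/-- the matrix of the action on coordinates -/
def pRows_a : List ℕ := [870, 797, 1740, 16, 435, 64, 493, 128, 8, 1, 1972]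

/-- the quadratic form of the lift -/
def fRows_a : List ℕ := [1044, 1824, 472, 528, 1024, 1600, 768, 256, 512, 0, 0]

/-- the conjugated cocycle matrices -/
def qRows_a : List (List ℕ) :=
  [[21, 492, 2030, 91, 92, 1625, 1915, 2042, 1952, 91, 418],
   [356, 148, 15, 1602, 1834, 157, 14, 155, 157, 6, 511],
   [362, 1254, 1420, 134, 426, 1254, 858, 493, 981, 1420, 0],
   [431, 1833, 1606, 1911, 295, 1953, 93, 484, 1834, 1742, 192],
   [353, 1824, 24, 141, 1565, 496, 496, 129, 1601, 1736, 1625],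
   [1840, 1829, 1620, 156, 2023, 1829, 137, 1956, 504, 1620, 501],
   [11, 315, 195, 305, 368, 315, 1973, 1679, 1613, 195, 499],
   [303, 697, 902, 1902, 1847, 696, 1265, 1600, 1479, 903, 1956],
   [1613, 381, 197, 212, 2016, 381, 208, 1689, 488, 1905, 65],
   [1540, 774, 1290, 93, 1911, 902, 1503, 1753, 1255, 1418, 8],
   [1913, 860, 1310, 2022, 1849, 852, 963, 159, 1408, 1302, 315]]


theorem hq_a : ∀ i : Fin 11, q8a (gPt (qs_a.getD i.val 0)) = ip i := by
  intro i
  rw [q8a_apply]
  revert i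
  decide +kernel

theorem hP_a : ∀ j i : Fin 11, matE pRows_a j i = gen0 i (gPt (qs_a.getD j.val 0)) := by
  decide +kernel

theorem hQ_a : ∀ k : Fin 11,
    (mat pRows_a)ᵀ * U k * mat pRows_a = mat (qRows_a.getD k.val []) := by
  decide +kernel

theorem hsym_a : ∀ l : Fin 11,
    ((∑ k, mat pRows_a k l • mat (qRows_a.getD k.val [])) + U l) +
      ((∑ k, mat pRows_a k l • mat (qRows_a.getD k.val [])) + U l)ᵀ = 0 := by
  decide +kernel

theorem hdiag_a : ∀ l i : Fin 11,
    ((∑ k, mat pRows_a k l • mat (qRows_a.getD k.val [])) + U l) i i =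
      (mat fRows_a + (mat fRows_a)ᵀ) i l := by
  decide +kernel

theorem lift_a (x y : W) :
    qf (mat fRows_a) (x + y) + qf (mat fRows_a) x + qf (mat fRows_a) y =
      Th (rho q8a x) (rho q8a y) + Th x y :=
  lift_of_data q8a qs_a pRows_a fRows_a qRows_a hq_a hP_a hQ_a hsym_a
    hdiag_a x y

end Cfsg.Agent.Helper93.Pk
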