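import Cfsg.Agent.Helper93.Pk.PkU
import Cfsg.Agent.Helper93.Pk.PkQ8

/-!
# The lift of the second quaternion generator to the extension
-/

set_option autoImplicit false

namespace Cfsg.Agent.Helper93.Pk

open Cfsg Cfsg.Agent.Helper27 Cfsg.Agent.Helper7 Cfsg.Agent.Helper92 Matrix

/-- preimages of the information points -/
def qs_b : List ℕ := [11, 1, 14, 6, 13, 16, 5, 8, 7, 21, 12]

/-- the matrix of the action on coordinates -/
def pRows_b : List ℕ := [1024, 1, 1355, 32, 1183, 435, 16, 128, 64, 1972, 1141]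

/-- the quadratic form of the lift -/
def fRows_b : List ℕ := [926, 1136, 488, 96, 1248, 1024, 1280, 0, 0, 1024, 0]

/-- the conjugated cocycle matrices -/
def qRows_b : List (List ℕ) :=
  [[1409, 907, 1125, 1199, 128, 674, 202, 1269, 2030, 961, 1902],
   [1138, 1138, 144, 966, 208, 1773, 1827, 1828, 1250, 0, 1484],
   [552, 1077, 1125, 1125, 1077, 355, 961, 64, 80, 0, 1903],
   [404, 1414, 1559, 1828, 1141, 674, 1350, 1205, 913, 0, 1064],
   [1531, 0, 0, 1125, 1908, 626, 1956, 1061, 0, 0, 1674],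
   [1738, 1045, 16, 1045, 16, 1019, 1029, 80, 1029, 1141, 1892],
   [446, 1950, 690, 1950, 690, 1516, 345, 1286, 1324, 0, 371],
   [1425, 1093, 1061, 1029, 977, 1430, 32, 1125, 96, 1141, 1654],
   [141, 1494, 849, 291, 977, 291, 1543, 1956, 754, 1141, 706],
   [141, 1125, 80, 16, 1189, 345, 1077, 80, 1077, 0, 1267],
   [1891, 584, 483, 1468, 1623, 1543, 1003, 483, 939, 0, 601]]


theorem hq_b : ∀ i : Fin 11, q8b (gPt (qs_b.getD i.val 0)) = ip i := by
  intro i
  rw [q8b_apply]
  revert i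
  decide +kernel

theorem hP_b : ∀ j i : Fin 11, matE pRows_b j i = gen0 i (gPt (qs_b.getD j.val 0)) := by
  decide +kernel

theorem hQ_b : ∀ k : Fin 11,
    (mat pRows_b)ᵀ * U k * mat pRows_b = mat (qRows_b.getD k.val []) := by
  decide +kernel

theorem hsym_b : ∀ l : Fin 11,
    ((∑ k, mat pRows_b k l • mat (qRows_b.getD k.val [])) + U l) +
      ((∑ k, mat pRows_b k l • mat (qRows_b.getD k.val [])) + U l)ᵀ = 0 := by
  decide +kernel

theorem hdiag_b : ∀ l i : Fin 11,
    ((∑ k, mat pRows_b k l • mat (qRows_b.getD k.val [])) + U l) i i =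
      (mat fRows_b + (mat fRows_b)ᵀ) i l := by
  decide +kernel

theorem lift_b (x y : W) :
    qf (mat fRows_b) (x + y) + qf (mat fRows_b) x + qf (mat fRows_b) y =
      Th (rho q8b x) (rho q8b y) + Th x y :=
  lift_of_data q8b qs_b pRows_b fRows_b qRows_b hq_b hP_b hQ_b hsym_b
    hdiag_b x y

end Cfsg.Agent.Helper93.Pk
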