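import Cfsg.Agent.Helper93.Pk.PkC
import Cfsg.Agent.Helper93.Pk.PkGqa
import Cfsg.Agent.Helper93.Pk.PkGqb

/-!
# The extension does not split

A complement would contain lifts of the quaternion generators `q8a`, `q8b` satisfying the relations
of the quaternion group; four instances of these relations add up to `1 = 0`.
-/

set_option autoImplicit false

namespace Cfsg.Agent.Helper93.Pk

open Cfsg Cfsg.Agent.Helper27 Cfsg.Agent.Helper7 Cfsg.Agent.Helper92 Matrix

/-- the vector with a given bit mask -/
def vec (m : ℕ) : W := fun i => if m.testBit i.val then 1 else 0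

theorem pmat_a : pmat q8a = mat pRows_a := by
  rw [pmat_eq q8a (fun i => gPt (qs_a.getD i.val 0)) hq_a]
  funext j i
  exact (hP_a j i).symm

theorem pmat_b : pmat q8b = mat pRows_b := by
  rw [pmat_eq q8b (fun i => gPt (qs_b.getD i.val 0)) hq_b]
  funext j i
  exact (hP_b j i).symm

theorem rho_a (x : W) : rho q8a x = mat pRows_a *ᵥ x := by rw [rho_eq_mulVec, pmat_a]

theorem rho_b (x : W) : rho q8b x = mat pRows_b *ᵥ x := by rw [rho_eq_mulVec, pmat_b]

theorem rho_a_1 : rho q8a (vec 1) = vec 594 := by
  rw [rho_a]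
  decide +kernel

theorem rho_b_1 : rho q8b (vec 1) = vec 1078 := by
  rw [rho_b]
  decide +kernel

theorem rho_a_2 : rho q8a (vec 2) = vec 17 := by
  rw [rho_a]
  decide +kernel

theorem rho_b_17 : rho q8b (vec 17) = vec 582 := by
  rw [rho_b]
  decide +kernel

theorem rho_a_4 : rho q8a (vec 4) = vec 1095 := by
  rw [rho_a]
  decide +kernel

theorem rho_b_4 : rho q8b (vec 4) = vec 1552 := by
  rw [rho_b]
  decide +kernel

theorem rho_a_128 : rho q8a (vec 128) = vec 1236 := by
  rw [rho_a]
  decide +kernel

theorem rho_b_128 : rho q8b (vec 128) = vec 688 := by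
  rw [rho_b]
  decide +kernel


theorem sum_map_additive (u : W → ZMod 2) (hu : ∀ x y, u (x + y) = u x + u y) (l : List W) :
    (l.map u).sum = u l.sum := by
  have h0 : u 0 = 0 := by
    have := hu 0 0
    rw [add_zero] at this
    have e : ∀ a : ZMod 2, a = a + a → a = 0 := by decide
    exact e _ this
  induction l with
  | nil => simp [h0]
  | cons a l ih => rw [List.map_cons, List.sum_cons, List.sum_cons, hu, ih]

theorem z2_comb4 : ∀ A B C A' B' C' T : ZMod 2, A + B + C = T → A' + B' + C' = T →
    (A + A') = (B + B') + (C + C') := by decide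

/-- a function with the polarisation of `qf F` differs from `qf F` by an additive function -/
theorem sum_map_of_polar (f : W → ZMod 2) (F : Matrix (Fin 11) (Fin 11) (ZMod 2)) (T : W → W → ZMod 2)
    (hf : ∀ x y, f (x + y) + f x + f y = T x y)
    (hF : ∀ x y, qf F (x + y) + qf F x + qf F y = T x y) (l : List W) (hl : l.sum = 0) :
    (l.map f).sum = (l.map (qf F)).sum := by
  have hu : ∀ x y, (fun z => f z + qf F z) (x + y) = (fun z => f z + qf F z) x + (fun z => f z + qf F z) y :=
    fun x y => z2_comb4 _ _ _ _ _ _ _ (hf x y) (hF x y)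
  have h1 := sum_map_additive (fun z => f z + qf F z) hu l
  have h0 : f 0 + qf F 0 = 0 := by
    have := hu 0 0
    simp only [add_zero] at this
    have e : ∀ a : ZMod 2, a = a + a → a = 0 := by decide
    exact e _ this
  rw [hl] at h1
  have h2 : (l.map (fun z => f z + qf F z)).sum = 0 := h1.trans h0
  rw [List.sum_map_add] at h2
  have e : ∀ a b : ZMod 2, a + b = 0 → a = b := by decide
  exact e _ _ h2

/-- the arguments of the first lift in the four relations -/
def fArgs : List W := [vec 1, vec 594, vec 2, vec 582, vec 4, vec 1095, vec 128, vec 1236]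

/-- the arguments of the second lift in the four relations -/
def gArgs : List W := [vec 1, vec 1078, vec 17, vec 2, vec 4, vec 1552, vec 128, vec 688]

theorem fArgs_sum : fArgs.sum = 0 := by decide +kernel

theorem gArgs_sum : gArgs.sum = 0 := by decide +kernel

theorem cert_total : (fArgs.map (qf (mat fRows_a))).sum + (gArgs.map (qf (mat fRows_b))).sum = 1 := by
  decide +kernel

theorem z2_eq_to_sum : ∀ a b : ZMod 2, a = b → a + b = 0 := by decide

/-- there are no lifts of `q8a` and `q8b` satisfying the quaternion relations -/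
theorem q8_no_lift (ea eb : PE) (ha : (ea.p : Equiv.Perm GolayPt) = q8a)
    (hb : (eb.p : Equiv.Perm GolayPt) = q8b) (h1 : ea * ea = eb * eb) (h2 : ea * eb * ea = eb) :
    False := by
  have R1 : ∀ x, ea.f x + ea.f (rho q8a x) = eb.f x + eb.f (rho q8b x) := by
    intro x
    have := congrFun (congrArg PE.f h1) x
    rwa [mul_f, mul_f, ha, hb] at this
  have R2 : ∀ x, ea.f x + (eb.f (rho q8a x) + ea.f (rho q8b (rho q8a x))) = eb.f x := by
    intro x
    have := congrFun (congrArg PE.f h2) x
    rwa [mul_f, mul_f, ha, hb] at this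
  have r0 : ea.f (vec 1) + ea.f (vec 594) + (eb.f (vec 1) + eb.f (vec 1078)) = 0 := by
    have := R1 (vec 1)
    rw [rho_a_1, rho_b_1] at this
    exact z2_eq_to_sum _ _ this
  have r1 : ea.f (vec 2) + (eb.f (vec 17) + ea.f (vec 582)) + eb.f (vec 2) = 0 := by
    have := R2 (vec 2)
    rw [rho_a_2, rho_b_17] at this
    exact z2_eq_to_sum _ _ this
  have r2 : ea.f (vec 4) + ea.f (vec 1095) + (eb.f (vec 4) + eb.f (vec 1552)) = 0 := by
    have := R1 (vec 4)
    rw [rho_a_4, rho_b_4] at this
    exact z2_eq_to_sum _ _ this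
  have r7 : ea.f (vec 128) + ea.f (vec 1236) + (eb.f (vec 128) + eb.f (vec 688)) = 0 := by
    have := R1 (vec 128)
    rw [rho_a_128, rho_b_128] at this
    exact z2_eq_to_sum _ _ this
  have hfs : (fArgs.map ea.f).sum = (fArgs.map (qf (mat fRows_a))).sum :=
    sum_map_of_polar ea.f (mat fRows_a) (fun x y => Th (rho q8a x) (rho q8a y) + Th x y)
      (fun x y => by have := ea.h x y; rwa [ha] at this) lift_a fArgs fArgs_sum
  have hgs : (gArgs.map eb.f).sum = (gArgs.map (qf (mat fRows_b))).sum :=
    sum_map_of_polar eb.f (mat fRows_b) (fun x y => Th (rho q8b x) (rho q8b y) + Th x y)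
      (fun x y => by have := eb.h x y; rwa [hb] at this) lift_b gArgs gArgs_sum
  have htot : (fArgs.map ea.f).sum + (gArgs.map eb.f).sum = 0 := by
    simp only [fArgs, gArgs, List.map_cons, List.map_nil, List.sum_cons, List.sum_nil]
    linear_combination r0 + r1 + r2 + r7
  rw [hfs, hgs, cert_total] at htot
  exact one_ne_zero htot

end Cfsg.Agent.Helper93.Pk
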