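import Cfsg.Agent.Helper93.Pk.PkS
import Cfsg.Agent.Helper93.Pk.PkD
import Cfsg.Agent.Helper65.GolayDual

/-!
# The extension `2¹¹ · M23` does not split, and its kernel is the Golay cocode module
-/

set_option autoImplicit false

namespace Cfsg.Agent.Helper93.Pk

open Cfsg Cfsg.Agent.Helper27 Cfsg.Agent.Helper7 Matrix

theorem eq_of_p_eq {H : Subgroup PE} (hHN : H ⊓ proj.ker = ⊥) {x y : PE} (hx : x ∈ H) (hy : y ∈ H)
    (h : x.p = y.p) : x = y := by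
  have hk : x * y⁻¹ ∈ proj.ker := by
    rw [MonoidHom.mem_ker, map_mul, map_inv, proj_apply, proj_apply, h, mul_inv_cancel]
  have hm : x * y⁻¹ ∈ H ⊓ proj.ker := Subgroup.mem_inf.2 ⟨H.mul_mem hx (H.inv_mem hy), hk⟩
  rw [hHN, Subgroup.mem_bot] at hm
  exact mul_inv_eq_one.1 hm

theorem exists_mem_p_eq {H : Subgroup PE} (hsup : H ⊔ proj.ker = ⊤) (π : ↥Spor.M23) :
    ∃ e ∈ H, e.p = π := by
  obtain ⟨e, he⟩ := proj_surjective π
  have hmem : e ∈ H ⊔ proj.ker := hsup ▸ Subgroup.mem_top e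
  rw [Subgroup.mem_sup_of_normal_right] at hmem
  obtain ⟨y, hy, z, hz, rfl⟩ := hmem
  refine ⟨y, hy, ?_⟩
  rw [map_mul, MonoidHom.mem_ker.1 hz, mul_one] at he
  exact he

/-- the kernel has no complement -/
theorem nonsplit (H : Subgroup PE) (hHN : H ⊓ proj.ker = ⊥) : H ⊔ proj.ker ≠ ⊤ := by
  intro hsup
  obtain ⟨ea, hea, hpa⟩ := exists_mem_p_eq hsup ⟨q8a, q8a_mem⟩
  obtain ⟨eb, heb, hpb⟩ := exists_mem_p_eq hsup ⟨q8b, q8b_mem⟩
  apply q8_no_lift ea eb (by rw [hpa]) (by rw [hpb])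
  · apply eq_of_p_eq hHN (H.mul_mem hea hea) (H.mul_mem heb heb)
    rw [mul_p, mul_p, hpa, hpb]
    exact Subtype.ext q8_rel1
  · apply eq_of_p_eq hHN (H.mul_mem (H.mul_mem hea heb) hea) heb
    rw [mul_p, mul_p, hpa, hpb]
    exact Subtype.ext q8_rel2

/-- the kernel of the parametrisation -/
theorem thetaHom_eq_zero_iff_golay (w : V) :
    thetaHom w = 0 ↔ (w ∈ golayCode ∨ w + Pi.single none 1 ∈ golayCode) := by
  rw [thetaHom_eq_zero_iff']
  exact Cfsg.Agent.Helper65.GolayDual.orth_C0_iff w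

end Cfsg.Agent.Helper93.Pk
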