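import Cfsg.Agent.Helper93.Pk.PkU
import Cfsg.Agent.Helper27.PSL23

/-!
# The lift of the translation to the extension
-/

set_option autoImplicit false

namespace Cfsg.Agent.Helper93.Pk

open Cfsg Cfsg.Agent.Helper27 Cfsg.Agent.Helper7 Matrix

/-- preimages of the information points -/
def qs_alpha : List ℕ := [0, 1, 2, 3, 4, 5, 6, 7, 8, 9, 10]

/-- the matrix of the action on coordinates -/
def pRows_alpha : List ℕ := [1594, 1, 2, 4, 8, 16, 32, 64, 128, 256, 512]

/-- the quadratic form of the lift -/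
def fRows_alpha : List ℕ := [0, 268, 0, 288, 352, 768, 0, 0, 1536, 0, 0]

/-- the conjugated cocycle matrices -/
def qRows_alpha : List (List ℕ) :=
  [[834, 268, 400, 288, 352, 768, 256, 768, 768, 0, 0],
   [0, 188, 536, 802, 578, 706, 0, 512, 0, 834, 834],
   [1020, 269, 80, 813, 429, 269, 512, 768, 0, 269, 269],
   [538, 450, 0, 162, 610, 338, 0, 512, 0, 402, 402],
   [102, 770, 304, 290, 770, 706, 128, 768, 0, 290, 290],
   [262, 448, 1000, 836, 356, 356, 128, 512, 512, 356, 356],
   [394, 768, 216, 200, 792, 792, 256, 512, 0, 792, 792],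
   [10, 789, 48, 433, 401, 17, 0, 512, 512, 273, 273],
   [546, 20, 560, 100, 324, 260, 512, 0, 512, 260, 772],
   [50, 639, 24, 607, 255, 703, 512, 512, 0, 767, 767],
   [134, 361, 144, 273, 33, 289, 384, 256, 0, 417, 417]]


theorem hq_alpha : ∀ i : Fin 11, (trP 1) (gPt (qs_alpha.getD i.val 0)) = ip i := by
  decide +kernel

theorem hP_alpha : ∀ j i : Fin 11, matE pRows_alpha j i = gen0 i (gPt (qs_alpha.getD j.val 0)) := by
  decide +kernel

theorem hQ_alpha : ∀ k : Fin 11,
    (mat pRows_alpha)ᵀ * U k * mat pRows_alpha = mat (qRows_alpha.getD k.val []) := by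
  decide +kernel

theorem hsym_alpha : ∀ l : Fin 11,
    ((∑ k, mat pRows_alpha k l • mat (qRows_alpha.getD k.val [])) + U l) +
      ((∑ k, mat pRows_alpha k l • mat (qRows_alpha.getD k.val [])) + U l)ᵀ = 0 := by
  decide +kernel

theorem hdiag_alpha : ∀ l i : Fin 11,
    ((∑ k, mat pRows_alpha k l • mat (qRows_alpha.getD k.val [])) + U l) i i =
      (mat fRows_alpha + (mat fRows_alpha)ᵀ) i l := by
  decide +kernel

theorem lift_alpha (x y : W) :
    qf (mat fRows_alpha) (x + y) + qf (mat fRows_alpha) x + qf (mat fRows_alpha) y =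
      Th (rho (trP 1) x) (rho (trP 1) y) + Th x y :=
  lift_of_data (trP 1) qs_alpha pRows_alpha fRows_alpha qRows_alpha hq_alpha hP_alpha hQ_alpha hsym_alpha
    hdiag_alpha x y

end Cfsg.Agent.Helper93.Pk
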