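import Cfsg.Agent.Helper93.Pk.PkU
import Cfsg.Agent.Helper27.M23Base

/-!
# The lift of the doubling map to the extension
-/

set_option autoImplicit false

namespace Cfsg.Agent.Helper93.Pk

open Cfsg Cfsg.Agent.Helper27 Cfsg.Agent.Helper7 Matrix

/-- preimages of the information points -/
def qs_beta : List ℕ := [12, 1, 13, 2, 14, 3, 15, 4, 16, 5, 17]

/-- the matrix of the action on coordinates -/
def pRows_beta : List ℕ := [1141, 1, 1183, 2, 1355, 4, 1763, 8, 435, 16, 870]

/-- the quadratic form of the lift -/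
def fRows_beta : List ℕ := [128, 116, 536, 1472, 1984, 768, 1664, 1280, 1024, 1024, 0]

/-- the conjugated cocycle matrices -/
def qRows_beta : List (List ℕ) :=
  [[1099, 525, 930, 954, 1369, 0, 1413, 1369, 1413, 886, 220],
   [1587, 2043, 525, 791, 379, 1316, 169, 1849, 1421, 419, 1365],
   [712, 1791, 520, 1763, 1582, 1582, 221, 886, 1779, 0, 221],
   [936, 1062, 286, 1787, 1618, 2021, 628, 721, 1425, 443, 632],
   [711, 1066, 620, 1078, 1183, 1332, 1602, 733, 886, 1070, 967],
   [965, 212, 427, 868, 427, 1439, 892, 1076, 1763, 0, 1070],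
   [686, 20, 886, 1942, 16, 1375, 1264, 1577, 431, 0, 447],
   [1667, 421, 706, 1076, 881, 867, 1877, 18, 1078, 16, 1073],
   [2023, 878, 14, 1417, 864, 884, 1769, 20, 1787, 0, 1789],
   [536, 194, 1848, 1413, 1848, 1667, 693, 733, 1078, 8, 774],
   [104, 944, 530, 519, 929, 1762, 422, 1363, 1860, 435, 1366]]


theorem hq_beta : ∀ i : Fin 11, (muP two23) (gPt (qs_beta.getD i.val 0)) = ip i := by
  decide +kernel

theorem hP_beta : ∀ j i : Fin 11, matE pRows_beta j i = gen0 i (gPt (qs_beta.getD j.val 0)) := by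
  decide +kernel

theorem hQ_beta : ∀ k : Fin 11,
    (mat pRows_beta)ᵀ * U k * mat pRows_beta = mat (qRows_beta.getD k.val []) := by
  decide +kernel

theorem hsym_beta : ∀ l : Fin 11,
    ((∑ k, mat pRows_beta k l • mat (qRows_beta.getD k.val [])) + U l) +
      ((∑ k, mat pRows_beta k l • mat (qRows_beta.getD k.val [])) + U l)ᵀ = 0 := by
  decide +kernel

theorem hdiag_beta : ∀ l i : Fin 11,
    ((∑ k, mat pRows_beta k l • mat (qRows_beta.getD k.val [])) + U l) i i =
      (mat fRows_beta + (mat fRows_beta)ᵀ) i l := by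
  decide +kernel

theorem lift_beta (x y : W) :
    qf (mat fRows_beta) (x + y) + qf (mat fRows_beta) x + qf (mat fRows_beta) y =
      Th (rho (muP two23) x) (rho (muP two23) y) + Th x y :=
  lift_of_data (muP two23) qs_beta pRows_beta fRows_beta qRows_beta hq_beta hP_beta hQ_beta hsym_beta
    hdiag_beta x y

end Cfsg.Agent.Helper93.Pk
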