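import Cfsg.Agent.Helper93.Pk.PkU
import Cfsg.Agent.Helper7.Table

/-!
# The lift of the cube twist to the extension
-/

set_option autoImplicit false

namespace Cfsg.Agent.Helper93.Pk

open Cfsg Cfsg.Agent.Helper27 Cfsg.Agent.Helper7 Matrix

/-- preimages of the information points -/
def qs_delta : List ℕ := [6, 4, 3, 18, 7, 2, 10, 12, 13, 20, 17]

/-- the matrix of the action on coordinates -/
def pRows_delta : List ℕ := [32, 8, 4, 1740, 64, 2, 512, 1141, 1183, 986, 870]

/-- the quadratic form of the lift -/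
def fRows_delta : List ℕ := [804, 1828, 1472, 608, 320, 1344, 1280, 512, 1024, 0, 0]

/-- the conjugated cocycle matrices -/
def qRows_delta : List (List ℕ) :=
  [[870, 1455, 375, 906, 986, 986, 1531, 1863, 188, 1863, 1057],
   [870, 188, 1182, 66, 870, 1229, 1361, 66, 0, 1121, 66],
   [986, 1571, 1965, 19, 986, 1592, 1655, 1227, 0, 1143, 1965],
   [870, 306, 1809, 70, 870, 1859, 472, 870, 0, 234, 870],
   [1059, 474, 1181, 473, 1059, 1345, 1351, 356, 0, 910, 1531],
   [2041, 0, 1468, 1796, 1183, 2044, 1161, 534, 870, 368, 1519],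
   [188, 870, 86, 1231, 188, 804, 806, 974, 0, 168, 20],
   [870, 1183, 1230, 582, 0, 976, 2043, 514, 870, 702, 356],
   [870, 1811, 474, 864, 0, 1648, 1227, 514, 0, 514, 514],
   [0, 0, 1245, 290, 0, 1128, 1467, 804, 0, 1079, 66],
   [1183, 1183, 168, 1296, 1183, 520, 1349, 1863, 0, 2, 2]]


theorem hq_delta : ∀ i : Fin 11, cubeTwist (gPt (qs_delta.getD i.val 0)) = ip i := by
  decide +kernel

theorem hP_delta : ∀ j i : Fin 11, matE pRows_delta j i = gen0 i (gPt (qs_delta.getD j.val 0)) := by
  decide +kernel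

theorem hQ_delta : ∀ k : Fin 11,
    (mat pRows_delta)ᵀ * U k * mat pRows_delta = mat (qRows_delta.getD k.val []) := by
  decide +kernel

theorem hsym_delta : ∀ l : Fin 11,
    ((∑ k, mat pRows_delta k l • mat (qRows_delta.getD k.val [])) + U l) +
      ((∑ k, mat pRows_delta k l • mat (qRows_delta.getD k.val [])) + U l)ᵀ = 0 := by
  decide +kernel

theorem hdiag_delta : ∀ l i : Fin 11,
    ((∑ k, mat pRows_delta k l • mat (qRows_delta.getD k.val [])) + U l) i i =
      (mat fRows_delta + (mat fRows_delta)ᵀ) i l := by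
  decide +kernel

theorem lift_delta (x y : W) :
    qf (mat fRows_delta) (x + y) + qf (mat fRows_delta) x + qf (mat fRows_delta) y =
      Th (rho cubeTwist x) (rho cubeTwist y) + Th x y :=
  lift_of_data cubeTwist qs_delta pRows_delta fRows_delta qRows_delta hq_delta hP_delta hQ_delta hsym_delta
    hdiag_delta x y

end Cfsg.Agent.Helper93.Pk
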