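import Cfsg.Agent.Helper93.Pk.PkC
import Cfsg.Agent.Helper93.Pk.PkGa
import Cfsg.Agent.Helper93.Pk.PkGb
import Cfsg.Agent.Helper93.Pk.PkGd
import Cfsg.Agent.Helper27.M23Max

/-!
# Every element of `M23` lifts to the extension

The liftable permutations form a subgroup containing `23:11` and the cube twist, and `23:11` is
maximal in `M23`.
-/

set_option autoImplicit false

namespace Cfsg.Agent.Helper93.Pk

open Cfsg Cfsg.Agent.Helper27 Cfsg.Agent.Helper7 Matrix

theorem trP_one_mem_M23 : trP 1 ∈ Spor.M23 :=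
  F23_le_M23p (Subgroup.subset_closure (Or.inl rfl))

theorem muP_two_mem_M23 : muP two23 ∈ Spor.M23 :=
  (mem_M23_iff _).2 ⟨muP_two_mem, muP_none _⟩

theorem cubeTwist_mem_M23 : cubeTwist ∈ Spor.M23 :=
  (mem_M23_iff _).2 ⟨cubeTwist_mem_M24, cubeTwist_none⟩

theorem F23_le_liftable : F23 ≤ liftable := by
  unfold F23
  rw [Subgroup.closure_le]
  rintro g (hg | ⟨u, ⟨r, rfl⟩, rfl⟩)
  · rw [Set.mem_singleton_iff] at hg
    subst hg
    exact mem_liftable_of_lift trP_one_mem_M23 _ lift_alpha
  · obtain ⟨j, _, hj⟩ := sq_eq_two_pow r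
    show muP (r * r) ∈ liftable
    rw [hj, muP_pow]
    exact liftable.pow_mem (mem_liftable_of_lift muP_two_mem_M23 _ lift_beta) j

theorem liftable_eq : liftable = Spor.M23 := by
  rcases F23_max liftable F23_le_liftable liftable_le with h | h
  · exfalso
    have hc : cubeTwist ∈ F23 := h ▸ mem_liftable_of_lift cubeTwist_mem_M23 _ lift_delta
    have := Subgroup.orderOf_dvd_natCard F23 hc
    rw [orderOf_cubeTwist, card_F23] at this
    norm_num at this
  · exact h

theorem proj_surjective : Function.Surjective proj := proj_surjective_of liftable_eq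

end Cfsg.Agent.Helper93.Pk
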