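import Cfsg.Agent.Helper93.Pk.PkB

/-!
# The cocycle on the coordinate space of `C₀`

Explicit upper triangular matrices `U k` with `Th x y = ∑ₖ yₖ · (xᵀ Uₖ x)`, a restriction of the
cocycle of the Parker loop, and the criterion for lifting a permutation.
-/

set_option autoImplicit false

namespace Cfsg.Agent.Helper93.Pk

open Cfsg Cfsg.Agent.Helper27 Cfsg.Agent.Helper7 Matrix

/-- the entries of the matrix with given rows, as bit masks -/
def matE (rows : List ℕ) (i j : Fin 11) : ZMod 2 :=
  if (rows.getD i.val 0).testBit j.val then 1 else 0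

/-- the matrix with given rows, as bit masks -/
def mat (rows : List ℕ) : Matrix (Fin 11) (Fin 11) (ZMod 2) := fun i j => matE rows i j

/-- the rows of the matrices of the cocycle -/
def uRows : List (List ℕ) :=
  [[0, 1668, 536, 800, 576, 704, 1536, 512, 1536, 1536, 0],
   [1668, 0, 2044, 1072, 192, 512, 768, 0, 1024, 0, 0],
   [538, 2040, 0, 160, 1088, 320, 0, 1024, 1536, 0, 0],
   [804, 1076, 160, 0, 608, 2016, 384, 0, 1024, 0, 0],
   [580, 204, 1088, 608, 0, 1088, 1984, 256, 1536, 0, 0],
   [712, 524, 328, 2000, 1088, 0, 0, 256, 1024, 1024, 0],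
   [1584, 788, 48, 432, 1952, 0, 0, 512, 1024, 0, 0],
   [546, 20, 1032, 96, 320, 256, 512, 0, 1024, 1024, 0],
   [1544, 1092, 1568, 1120, 1728, 1152, 1024, 1024, 0, 1024, 1024],
   [1534, 100, 256, 48, 320, 1024, 128, 1024, 1024, 0, 0],
   [834, 268, 400, 288, 352, 768, 256, 768, 512, 0, 0]]

/-- the matrices of the cocycle -/
def U (k : Fin 11) : Matrix (Fin 11) (Fin 11) (ZMod 2) := mat (uRows.getD k.val [])

/-- the cocycle -/
def Th (x y : W) : ZMod 2 := theta U x y

theorem Th_add_right (x y z : W) : Th x (y + z) = Th x y + Th x z := theta_add_right U x y z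

/-- the lifting criterion with explicit data -/
theorem lift_of_data (g : Equiv.Perm GolayPt) (qs : List ℕ) (pRows fRows : List ℕ)
    (qRows : List (List ℕ))
    (hq : ∀ i : Fin 11, g (gPt (qs.getD i.val 0)) = ip i)
    (hP : ∀ j i : Fin 11, matE pRows j i = gen0 i (gPt (qs.getD j.val 0)))
    (hQ : ∀ k : Fin 11, (mat pRows)ᵀ * U k * mat pRows = mat (qRows.getD k.val []))
    (hsym : ∀ l : Fin 11, ((∑ k, mat pRows k l • mat (qRows.getD k.val [])) + U l) +
      ((∑ k, mat pRows k l • mat (qRows.getD k.val [])) + U l)ᵀ = 0)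
    (hdiag : ∀ l i : Fin 11, ((∑ k, mat pRows k l • mat (qRows.getD k.val [])) + U l) i i =
      (mat fRows + (mat fRows)ᵀ) i l) (x y : W) :
    qf (mat fRows) (x + y) + qf (mat fRows) x + qf (mat fRows) y =
      Th (rho g x) (rho g y) + Th x y := by
  have hp : pmat g = mat pRows := by
    rw [pmat_eq g (fun i => gPt (qs.getD i.val 0)) hq]
    funext j i
    exact (hP j i).symm
  rw [rho_eq_mulVec, rho_eq_mulVec, hp]
  exact theta_twist_eq U (fun k => mat (qRows.getD k.val [])) (mat pRows) (mat fRows) hQ hsym hdiag x y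

end Cfsg.Agent.Helper93.Pk
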